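/- Basic facts on de Rham forms of Kähler differentials: generation, functoriality, base change. -/
import Mathlib
import Groth.Prelude.Def_DeRham

set_option autoImplicit false
set_option linter.style.haveILetI false
set_option linter.unusedSectionVars false
universe u
open exteriorPower TensorProduct

namespace Groth.Agent.DRKaehler

variable {R A : Type u} [CommRing R] [CommRing A] [Algebra R A]

theorem induction {p : ℕ} {P : ↥(⋀[A]^p (Ω[A⁄R])) → Prop} (h0 : P 0) (hadd : ∀ x y, P x → P y → P (x + y))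
    (hgen : ∀ (b₀ : A) (b : Fin p → A), P (DeRham.gen (KaehlerDifferential.D R A) p b₀ b))
    (x : ↥(⋀[A]^p (Ω[A⁄R]))) : P x := by
  have hx : x ∈ Submodule.span A (Set.range fun b : Fin p → A =>
      ιMulti A p (fun i => KaehlerDifferential.D R A (b i))) := by
    refine (?_ : ⊤ ≤ Submodule.span A _) (Submodule.mem_top (x := x))
    rw [← ιMulti_span_of_span A p (Ω[A⁄R]) (KaehlerDifferential.span_range_derivation R A)]
    refine Submodule.span_mono ?_
    rintro _ ⟨v, hv, rfl⟩
    choose b hb using fun i => hv (Set.mem_range_self i)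
    exact ⟨b, congrArg _ (funext hb)⟩
  suffices h : ∀ a : A, P (a • x) by simpa using h 1
  induction hx using Submodule.span_induction with
  | zero => intro a; rwa [smul_zero]
  | add u v _ _ hu hv => intro a; rw [smul_add]; exact hadd _ _ (hu a) (hv a)
  | smul c u _ hu => intro a; rw [smul_smul]; exact hu _
  | mem z hz => obtain ⟨b, rfl⟩ := hz; exact fun a => hgen a b

theorem addHom_ext {p : ℕ} {M : Type u} [AddCommGroup M] {f g : ↥(⋀[A]^p (Ω[A⁄R])) →+ M}
    (h : ∀ (b₀ : A) (b : Fin p → A),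
      f (DeRham.gen (KaehlerDifferential.D R A) p b₀ b) = g (DeRham.gen (KaehlerDifferential.D R A) p b₀ b))
    (x : ↥(⋀[A]^p (Ω[A⁄R]))) : f x = g x :=
  induction (P := fun x => f x = g x) (by rw [map_zero, map_zero]) (fun x y hx hy => by rw [map_add, map_add, hx, hy]) h x

theorem wedge_D {p : ℕ} (b₀ : A) (b : Fin p → A) :
    ιMulti A (p + 1) (Fin.cons (KaehlerDifferential.D R A b₀) (fun i => KaehlerDifferential.D R A (b i))) =
      DeRham.gen (KaehlerDifferential.D R A) (p + 1) 1 (Fin.cons b₀ b) := by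
  rw [DeRham.gen, one_smul]
  congr 1
  funext i
  refine Fin.cases ?_ (fun j => ?_) i <;> simp

theorem isDiff_of_isRule (d : ∀ p : ℕ, ↥(⋀[A]^p (Ω[A⁄R])) →ₗ[R] ↥(⋀[A]^(p + 1) (Ω[A⁄R])))
    (hd : DeRham.IsRule (KaehlerDifferential.D R A) d) : DeRham.IsDiff (KaehlerDifferential.D R A) d := by
  refine ⟨hd, fun p => LinearMap.ext fun x => addHom_ext (f := (d (p + 1) ∘ₗ d p).toAddMonoidHom) (g := 0) (fun b₀ b => ?_) x⟩
  show d (p + 1) (d p _) = 0
  rw [hd, wedge_D, hd]
  exact (ιMulti A (p + 2)).map_coord_zero 0 (by rw [Fin.cons_zero, Derivation.map_one_eq_zero])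

/-- wedge with a fixed one form -/
noncomputable def wedgeLeft (p : ℕ) (ω : Ω[A⁄R]) :
    ↥(⋀[A]^p (Ω[A⁄R])) →ₗ[A] ↥(⋀[A]^(p + 1) (Ω[A⁄R])) :=
  alternatingMapLinearEquiv ((ιMulti A (p + 1)).curryLeft ω)

theorem commutator (d : ∀ p : ℕ, ↥(⋀[A]^p (Ω[A⁄R])) →ₗ[R] ↥(⋀[A]^(p + 1) (Ω[A⁄R])))
    (hd : DeRham.IsRule (KaehlerDifferential.D R A) d) (p : ℕ) (a : A) (x : ↥(⋀[A]^p (Ω[A⁄R]))) :
    d p (a • x) = a • d p x + wedgeLeft p (KaehlerDifferential.D R A a) x := by
  induction x using induction with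
  | h0 => simp
  | hadd x y hx hy => simp only [smul_add, map_add, hx, hy]; abel
  | hgen b₀ b =>
    have hw : ∀ z : Ω[A⁄R], wedgeLeft p z (ιMulti A p fun i => KaehlerDifferential.D R A (b i)) =
        ιMulti A (p + 1) (Fin.cons z fun i => KaehlerDifferential.D R A (b i)) := fun z => by
      rw [wedgeLeft, alternatingMapLinearEquiv_apply_ιMulti]; rfl
    have h1 : a • DeRham.gen (KaehlerDifferential.D R A) p b₀ b = DeRham.gen (KaehlerDifferential.D R A) p (a * b₀) b :=
      smul_smul _ _ _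
    rw [h1, hd, hd, DeRham.gen, map_smul, ← hw, ← hw, Derivation.leibniz]
    have hlin : ∀ z z' : Ω[A⁄R], wedgeLeft p (z + z') = wedgeLeft p z + wedgeLeft p z' := fun z z' => by
      rw [wedgeLeft, map_add, map_add]; rfl
    have hsm : ∀ (c : A) (z : Ω[A⁄R]), wedgeLeft p (c • z) = c • wedgeLeft p z := fun c z => by
      rw [wedgeLeft, map_smul, map_smul]; rfl
    rw [hlin, hsm, hsm, LinearMap.add_apply, LinearMap.smul_apply, LinearMap.smul_apply]

section Functorial

variable {S B : Type u} [CommRing S] [CommRing B] [Algebra A B] [Algebra S B]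

theorem isCxMap_comm [Algebra R B] [IsScalarTower R A B]
    (d : ∀ p : ℕ, ↥(⋀[A]^p (Ω[A⁄R])) →ₗ[R] ↥(⋀[A]^(p + 1) (Ω[A⁄R])))
    (hd : DeRham.IsRule (KaehlerDifferential.D R A) d)
    (d' : ∀ p : ℕ, ↥(⋀[B]^p (Ω[B⁄S])) →ₗ[S] ↥(⋀[B]^(p + 1) (Ω[B⁄S])))
    (hd' : DeRham.IsRule (KaehlerDifferential.D S B) d')
    (ψ : ∀ p : ℕ, ↥(⋀[A]^p (Ω[A⁄R])) →+ ↥(⋀[B]^p (Ω[B⁄S])))
    (hψ : DeRham.IsCxMap (KaehlerDifferential.D R A) (KaehlerDifferential.D S B) (algebraMap A B) ψ)
    (p : ℕ) (x : ↥(⋀[A]^p (Ω[A⁄R]))) :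
    ψ (p + 1) (d p x) = d' p (ψ p x) := by
  refine addHom_ext (f := (ψ (p + 1)).comp (d p).toAddMonoidHom) (g := (d' p).toAddMonoidHom.comp (ψ p)) (fun b₀ b => ?_) x
  show ψ (p + 1) (d p _) = d' p (ψ p _)
  rw [hd, wedge_D, hψ, hψ, hd', map_one, wedge_D]
  congr 1
  funext i
  refine Fin.cases ?_ (fun j => ?_) i <;> simp

variable [Algebra R S] [Algebra R B] [IsScalarTower R A B] [IsScalarTower R S B]

variable (R S A B) in
/-- the map on forms -/
noncomputable def formMap (p : ℕ) : ↥(⋀[A]^p (Ω[A⁄R])) →ₗ[A] ↥(⋀[B]^p (Ω[B⁄S])) :=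
  alternatingMapLinearEquiv
    { toFun := fun v => ιMulti B p (fun i => KaehlerDifferential.map R S A B (v i))
      map_update_add' := fun {_} v i x y => by
        classical
        simp only [Function.apply_update (fun _ => KaehlerDifferential.map R S A B) v, map_add]
        exact AlternatingMap.map_update_add _ _ i _ _
      map_update_smul' := fun {_} v i c x => by
        classical
        simp only [Function.apply_update (fun _ => KaehlerDifferential.map R S A B) v, map_smul]
        rw [← IsScalarTower.algebraMap_smul B c, AlternatingMap.map_update_smul, IsScalarTower.algebraMap_smul]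
      map_eq_zero_of_eq' := fun v i j h hij =>
        (ιMulti B p).map_eq_zero_of_eq (fun l => KaehlerDifferential.map R S A B (v l)) (by simp [h]) hij }

theorem formMap_ιMulti (p : ℕ) (v : Fin p → Ω[A⁄R]) :
    formMap R A S B p (ιMulti A p v) = ιMulti B p (fun i => KaehlerDifferential.map R S A B (v i)) :=
  alternatingMapLinearEquiv_apply_ιMulti _ _

theorem formMap_gen (p : ℕ) (b₀ : A) (b : Fin p → A) :
    formMap R A S B p (DeRham.gen (KaehlerDifferential.D R A) p b₀ b) =
      DeRham.gen (KaehlerDifferential.D S B) p (algebraMap A B b₀) (fun i => algebraMap A B (b i)) := by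
  rw [DeRham.gen, map_smul, formMap_ιMulti, DeRham.gen, IsScalarTower.algebraMap_smul]
  simp only [KaehlerDifferential.map_D]

theorem isCxMap_formMap :
    DeRham.IsCxMap (KaehlerDifferential.D R A) (KaehlerDifferential.D S B) (algebraMap A B)
      (fun p => (formMap R A S B p).toAddMonoidHom) :=
  fun p b₀ b => formMap_gen p b₀ b

end Functorial

end Groth.Agent.DRKaehler
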