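/- Base change of forms of Kähler differentials. -/
import Mathlib
import Groth.Agent.DRKaehler.Basic

set_option autoImplicit false
set_option linter.style.haveILetI false
set_option linter.unusedSectionVars false
universe u
open exteriorPower TensorProduct

namespace Groth.Agent.DRKaehler

variable (R S A B : Type u) [CommRing R] [CommRing S] [CommRing A] [CommRing B]
    [Algebra R S] [Algebra R A] [Algebra R B] [Algebra A B] [Algebra S B]
    [IsScalarTower R A B] [IsScalarTower R S B]

theorem sq_baseChange {M : Type u} [AddCommGroup M] [Module A M] (z : B ⊗[A] M) :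
    LinearMap.baseChange B (ExteriorAlgebra.ι A (M := M)) z * LinearMap.baseChange B (ExteriorAlgebra.ι A (M := M)) z = 0 := by
  set f := LinearMap.baseChange B (ExteriorAlgebra.ι A (M := M))
  have hanti : ∀ z w, f z * f w + f w * f z = 0 := by
    intro z w
    induction z using TensorProduct.induction_on with
    | zero => simp
    | add a c ha hc =>
      rw [map_add, add_mul, mul_add, add_add_add_comm, ha, hc, add_zero]
    | tmul b m =>
      induction w using TensorProduct.induction_on with
      | zero => simp
      | add a c ha hc => rw [map_add, add_mul, mul_add, add_add_add_comm, ha, hc, add_zero]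
      | tmul c n =>
        simp only [f, LinearMap.baseChange_tmul, Algebra.TensorProduct.tmul_mul_tmul]
        rw [mul_comm c b, ← tmul_add, ExteriorAlgebra.ι_add_mul_swap, tmul_zero]
  induction z using TensorProduct.induction_on with
  | zero => simp
  | tmul b m => simp [f, LinearMap.baseChange_tmul, Algebra.TensorProduct.tmul_mul_tmul]
  | add a c ha hc =>
    rw [map_add, add_mul, mul_add, mul_add, ha, hc, zero_add, add_zero]
    exact hanti a c

/-- forward map of exterior algebras -/
noncomputable def extMap : ExteriorAlgebra A (Ω[A⁄R]) →ₐ[A] ExteriorAlgebra B (Ω[B⁄S]) :=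
  ExteriorAlgebra.lift A ⟨((ExteriorAlgebra.ι B).restrictScalars A).comp (KaehlerDifferential.map R S A B),
    fun m => ExteriorAlgebra.ι_sq_zero (R := B) (KaehlerDifferential.map R S A B m)⟩

/-- its linear extension -/
noncomputable def extBC : B ⊗[A] ExteriorAlgebra A (Ω[A⁄R]) →ₐ[B] ExteriorAlgebra B (Ω[B⁄S]) :=
  Algebra.TensorProduct.lift (Algebra.ofId B (ExteriorAlgebra B (Ω[B⁄S]))) (extMap R S A B)
    fun b _ => Algebra.commute_algebraMap_left b _

theorem extBC_tmul (b : B) (z : ExteriorAlgebra A (Ω[A⁄R])) :
    extBC R S A B (b ⊗ₜ z) = b • extMap R S A B z := by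
  rw [extBC, Algebra.TensorProduct.lift_tmul, Algebra.smul_def]
  rfl

theorem extBC_bijective [Algebra.IsPushout R S A B] : Function.Bijective (extBC R S A B) := by
  let e := KaehlerDifferential.tensorKaehlerEquiv R S A B
  let bk : ExteriorAlgebra B (Ω[B⁄S]) →ₐ[B] B ⊗[A] ExteriorAlgebra A (Ω[A⁄R]) :=
    ExteriorAlgebra.lift B ⟨(LinearMap.baseChange B (ExteriorAlgebra.ι A (M := Ω[A⁄R]))).comp e.symm.toLinearMap,
      fun m => sq_baseChange A B (e.symm m)⟩
  have he : ∀ (m : Ω[A⁄R]), e ((1 : B) ⊗ₜ m) = KaehlerDifferential.map R S A B m := by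
    intro m
    have hm : m ∈ Submodule.span A (Set.range (KaehlerDifferential.D R A)) := by
      rw [KaehlerDifferential.span_range_derivation]; trivial
    induction hm using Submodule.span_induction with
    | zero => simp
    | add x y _ _ hx hy => rw [tmul_add, map_add, map_add, hx, hy]
    | smul c x _ hx =>
      rw [map_smul, ← hx, ← IsScalarTower.algebraMap_smul B c (e _), ← map_smul, tmul_smul,
        ← IsScalarTower.algebraMap_smul B c]
    | mem x hx =>
      obtain ⟨a, rfl⟩ := hx
      rw [KaehlerDifferential.tensorKaehlerEquiv_tmul_D, one_smul, KaehlerDifferential.map_D]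
  have h1 : bk.comp (extBC R S A B) = AlgHom.id B _ := by
    refine Algebra.TensorProduct.ext (Subsingleton.elim _ _) (ExteriorAlgebra.hom_ext (LinearMap.ext fun m => ?_))
    show bk (extBC R S A B ((1 : B) ⊗ₜ ExteriorAlgebra.ι A m)) = (1 : B) ⊗ₜ ExteriorAlgebra.ι A m
    rw [extBC_tmul, one_smul]
    simp only [extMap, ExteriorAlgebra.lift_ι_apply, LinearMap.comp_apply, LinearMap.restrictScalars_apply, bk,
      LinearEquiv.coe_coe]
    rw [← he, LinearEquiv.symm_apply_apply, LinearMap.baseChange_tmul]
  have h2 : (extBC R S A B).comp bk = AlgHom.id B _ := by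
    refine ExteriorAlgebra.hom_ext (LinearMap.ext fun y => ?_)
    obtain ⟨z, rfl⟩ := e.surjective y
    show extBC R S A B (bk (ExteriorAlgebra.ι B (e z))) = ExteriorAlgebra.ι B (e z)
    simp only [bk, ExteriorAlgebra.lift_ι_apply, LinearMap.comp_apply, LinearEquiv.coe_coe,
      LinearEquiv.symm_apply_apply]
    induction z using TensorProduct.induction_on with
    | zero => simp
    | add a c ha hc => rw [map_add, map_add, ha, hc, map_add, map_add]
    | tmul b m =>
      rw [LinearMap.baseChange_tmul, extBC_tmul, extMap, ExteriorAlgebra.lift_ι_apply, LinearMap.comp_apply,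
        LinearMap.restrictScalars_apply, ← he, ← map_smul, ← map_smul, TensorProduct.smul_tmul', smul_eq_mul, mul_one]
  exact ⟨Function.LeftInverse.injective (g := bk) (DFunLike.congr_fun h1),
    Function.RightInverse.surjective (g := bk) (DFunLike.congr_fun h2)⟩

theorem extMap_formMap (p : ℕ) (x : ↥(⋀[A]^p (Ω[A⁄R]))) :
    extMap R S A B (x : ExteriorAlgebra A (Ω[A⁄R])) = (formMap R A S B p x : ExteriorAlgebra B (Ω[B⁄S])) := by
  induction x using induction with
  | h0 => simp
  | hadd x y hx hy => simp only [Submodule.coe_add, map_add, hx, hy]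
  | hgen b₀ b =>
    rw [formMap_gen]
    simp only [DeRham.gen, Submodule.coe_smul, ιMulti_apply_coe, ExteriorAlgebra.ιMulti_apply, map_smul,
      IsScalarTower.algebraMap_smul, map_list_prod, List.map_ofFn]
    congr 3
    funext i
    simp [extMap]

/-- base change of forms -/
theorem formMap_liftBaseChange_bijective [Algebra.IsPushout R S A B] (p : ℕ) :
    Function.Bijective ((formMap R A S B p).liftBaseChange B) := by
  classical
  constructor
  · let incl := (⋀[A]^p (Ω[A⁄R])).subtype
    let pr : ExteriorAlgebra A (Ω[A⁄R]) →ₗ[A] ↥(⋀[A]^p (Ω[A⁄R])) :=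
      (GradedAlgebra.proj (fun i : ℕ => ⋀[A]^i (Ω[A⁄R])) p).codRestrict _ fun z => by
        rw [GradedAlgebra.proj_apply]; exact SetLike.coe_mem _
    have hpr : pr ∘ₗ incl = LinearMap.id := by
      refine LinearMap.ext fun z => Subtype.ext ?_
      simp only [pr, incl, LinearMap.comp_apply, LinearMap.codRestrict_apply, Submodule.coe_subtype,
        GradedAlgebra.proj_apply, LinearMap.id_apply]
      exact DirectSum.decompose_of_mem_same _ z.2
    have hinj : Function.Injective (LinearMap.lTensor B incl) :=
      Function.LeftInverse.injective (g := LinearMap.lTensor B pr) fun z => by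
        rw [← LinearMap.comp_apply, ← LinearMap.lTensor_comp, hpr, LinearMap.lTensor_id, LinearMap.id_apply]
    have key : ∀ z, extBC R S A B (LinearMap.lTensor B incl z) =
        (((formMap R A S B p).liftBaseChange B z : ↥(⋀[B]^p (Ω[B⁄S]))) : ExteriorAlgebra B (Ω[B⁄S])) := by
      intro z
      induction z using TensorProduct.induction_on with
      | zero => simp
      | add a c ha hc => simp only [map_add, Submodule.coe_add, ha, hc]
      | tmul b x =>
        rw [LinearMap.lTensor_tmul, extBC_tmul, LinearMap.liftBaseChange_tmul, Submodule.coe_smul,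
          ← extMap_formMap]
        rfl
    intro a c h
    exact hinj ((extBC_bijective R S A B).1 ((key a).trans ((congrArg Subtype.val h).trans (key c).symm)))
  · intro y
    have hspan : Submodule.span B (Set.range (KaehlerDifferential.map R S A B)) = ⊤ := by
      rw [eq_top_iff]
      rintro w -
      obtain ⟨z, rfl⟩ := (KaehlerDifferential.tensorKaehlerEquiv R S A B).surjective w
      induction z using TensorProduct.induction_on with
      | zero => simp
      | add a c ha hc => rw [map_add]; exact add_mem ha hc
      | tmul b m =>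
        have hm : m ∈ Submodule.span A (Set.range (KaehlerDifferential.D R A)) := by
          rw [KaehlerDifferential.span_range_derivation]; trivial
        induction hm using Submodule.span_induction generalizing b with
        | zero => simp
        | add x y _ _ hx hy => rw [tmul_add, map_add]; exact add_mem (hx b) (hy b)
        | smul c x _ hx => rw [← TensorProduct.smul_tmul]; exact hx _
        | mem x hx =>
          obtain ⟨a, rfl⟩ := hx
          rw [KaehlerDifferential.tensorKaehlerEquiv_tmul_D, ← KaehlerDifferential.map_D R S A B]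
          exact Submodule.smul_mem _ _ (Submodule.subset_span ⟨_, rfl⟩)
    have : y ∈ LinearMap.range ((formMap R A S B p).liftBaseChange B) := by
      refine (?_ : ⊤ ≤ LinearMap.range ((formMap R A S B p).liftBaseChange B)) (Submodule.mem_top (x := y))
      rw [← ιMulti_span_of_span B p (Ω[B⁄S]) hspan, Submodule.span_le]
      rintro _ ⟨v, hv, rfl⟩
      choose w hw using fun i => hv (Set.mem_range_self i)
      refine ⟨(1 : B) ⊗ₜ ιMulti A p w, ?_⟩
      rw [LinearMap.liftBaseChange_tmul, one_smul, formMap_ιMulti]
      exact congrArg _ (funext hw)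
    exact this

end Groth.Agent.DRKaehler
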